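import Mathlib

/-!
# The degree subgroup of a twisted diagonal form
-/

universe u

set_option autoImplicit false
set_option linter.style.haveILetI false
set_option linter.deprecated false

open Polynomial

namespace Groth.Agent.TwDiag

/-- The generator. -/
def idx (d N : ℕ) : ℕ := ((Finset.Icc 1 N).filter (fun δ => δ ∣ d)).gcd (fun δ => d / δ)

/-- The arithmetic of two equal valuations. -/
theorem idx_dvd {d N : ℕ} (hd : 1 ≤ d) {i j : ℕ} (hi : i ≤ N) (hj : j ≤ N) (hij : i ≠ j) {a b : ℤ} {E : ℕ}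
    (h : (d : ℤ) * a - (i : ℤ) * E = (d : ℤ) * b - (j : ℤ) * E) : idx d N ∣ E := by
  have h1 : (d : ℤ) ∣ (((i : ℤ) - j).natAbs : ℤ) * E := by
    have h2 : (d : ℤ) ∣ ((i : ℤ) - j) * E := ⟨a - b, by linarith⟩
    rw [Int.natCast_natAbs]
    rcases abs_choice ((i : ℤ) - j) with h' | h' <;> rw [h']
    · exact h2
    · rw [neg_mul]; exact (Int.dvd_neg).2 h2
  set n := ((i : ℤ) - j).natAbs with hn
  have hn0 : 0 < n := by omega
  have hnN : n ≤ N := by omega
  have h3 : d ∣ n * E := by exact_mod_cast h1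
  let δ := Nat.gcd d n
  have hδ0 : 0 < δ := Nat.gcd_pos_of_pos_left _ hd
  have hmem : δ ∈ (Finset.Icc 1 N).filter (fun δ => δ ∣ d) :=
    Finset.mem_filter.2 ⟨Finset.mem_Icc.2 ⟨hδ0, (Nat.le_of_dvd hn0 (Nat.gcd_dvd_right d n)).trans hnN⟩,
      Nat.gcd_dvd_left d n⟩
  refine (Finset.gcd_dvd hmem).trans ?_
  refine (Nat.coprime_div_gcd_div_gcd hδ0).dvd_of_dvd_mul_left (k := d / δ) ?_
  refine Nat.dvd_of_mul_dvd_mul_left hδ0 ?_
  rw [← mul_assoc, Nat.mul_div_cancel' (Nat.gcd_dvd_left d n), Nat.mul_div_cancel' (Nat.gcd_dvd_right d n)]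
  exact h3

variable (R : Type u) [CommRing R] [IsDomain R] [IsDiscreteValuationRing R] (K : Type u) [Field K]
  [Algebra R K] [IsFractionRing R K]

omit [IsDomain R] [IsDiscreteValuationRing R] [Algebra R K] [IsFractionRing R K] in
/-- A finite purely inseparable extension is killed by its degree. -/
theorem pow_finrank_mem (F E : Type u) [Field F] [Field E] [Algebra F E] [IsPurelyInseparable F E]
    [FiniteDimensional F E] (p n : ℕ) [ExpChar F p] (hn : Module.finrank F E = p ^ n) (x : E) :
    x ^ p ^ n ∈ (algebraMap F E).range := by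
  obtain ⟨m, y, hm⟩ := IsPurelyInseparable.minpoly_eq_X_pow_sub_C F p x
  have hdeg : p ^ m ≤ p ^ n := by
    have := minpoly.natDegree_le (A := F) x
    rwa [hm, natDegree_X_pow_sub_C, hn] at this
  have hy : x ^ p ^ m = algebraMap F E y := by
    have := minpoly.aeval F x
    rwa [hm, map_sub, map_pow, aeval_X, aeval_C, sub_eq_zero] at this
  rcases le_or_gt m n with hmn | hnm
  · obtain ⟨r, rfl⟩ := Nat.exists_eq_add_of_le hmn
    exact ⟨y ^ p ^ r, by rw [map_pow, ← hy, ← pow_mul, ← pow_add]⟩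
  · have : p = 1 := by
      rcases expChar_is_prime_or_one F p with hp | hp
      · exact absurd hdeg (not_le.2 (Nat.pow_lt_pow_right hp.one_lt hnm))
      · exact hp
    subst this
    exact ⟨y, by rw [← hy]; simp⟩

variable {R} (ϖ : R) (hϖ : Irreducible ϖ)

include hϖ in
/-- The degree of a field containing a point is divisible by the index. -/
theorem idx_dvd_finrank (d N : ℕ) (hd : 1 ≤ d) (L : Type u) [Field L] [Algebra K L] [FiniteDimensional K L]
    (x : Fin (N + 1) → L) (hx : x ≠ 0)
    (heq : x 0 ^ d = ∑ i : Fin N, algebraMap K L (algebraMap R K (ϖ ^ ((i : ℕ) + 1))) * x i.succ ^ d) :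
    idx d N ∣ Module.finrank K L := by
  classical
  let Ls := separableClosure K L
  obtain ⟨p, hp⟩ := ExpChar.exists Ls
  haveI : ExpChar L p := expChar_of_injective_algebraMap (algebraMap Ls L).injective p
  obtain ⟨n, hn⟩ := IsPurelyInseparable.finrank_eq_pow (F := Ls) L p
  choose y hy using fun i => pow_finrank_mem Ls L p n hn (x i)
  letI : Algebra R Ls := ((algebraMap K Ls).comp (algebraMap R K)).toAlgebra
  haveI : IsScalarTower R K Ls := IsScalarTower.of_algebraMap_eq fun _ => rfl
  let S := integralClosure R Ls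
  haveI : IsDedekindDomain S := integralClosure.isDedekindDomain R K Ls
  haveI : IsFractionRing S Ls := integralClosure.isFractionRing_of_finite_extension K Ls
  haveI : Module.Finite R S := IsIntegralClosure.finite R K Ls S
  let q := p ^ n
  have hinj : Function.Injective (algebraMap R Ls) :=
    (algebraMap K Ls).injective.comp (IsFractionRing.injective R K)
  haveI : FaithfulSMul R Ls := (faithfulSMul_iff_algebraMap_injective R Ls).2 hinj
  haveI : Module.IsTorsionFree R S := inferInstance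
  have heq' : y 0 ^ d = ∑ i : Fin N, (algebraMap R Ls ϖ) ^ (((i : ℕ) + 1) * q) * y i.succ ^ d := by
    apply (algebraMap Ls L).injective
    rw [map_pow, hy 0, map_sum, ← pow_mul, mul_comm, pow_mul, heq, sum_pow_char_pow p]
    refine Finset.sum_congr rfl fun i _ => ?_
    have hι : algebraMap Ls L (algebraMap R Ls ϖ) = algebraMap K L (algebraMap R K ϖ) :=
      (IsScalarTower.algebraMap_apply K Ls L _).symm
    simp only [map_mul, map_pow, hy, hι, q]
    ring
  have hy0 : y ≠ 0 := fun h0 => hx (funext fun i => by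
    have := hy i
    rw [h0, Pi.zero_apply, map_zero] at this
    exact (pow_eq_zero_iff'.1 this.symm).1)
  have hpR : IsLocalRing.maximalIdeal R ≠ ⊥ := IsDiscreteValuationRing.not_a_field R
  rw [← Module.finrank_mul_finrank K Ls L, hn, ← Ideal.sum_ramification_inertia S K Ls hpR, Finset.sum_mul]
  refine Finset.dvd_sum fun P hP => ?_
  rw [IsDedekindDomain.mem_primesOverFinset_iff hpR] at hP
  obtain ⟨hPp, hPo⟩ := hP
  have hPb : P ≠ ⊥ := Ideal.ne_bot_of_liesOver_of_ne_bot hpR P
  let v : IsDedekindDomain.HeightOneSpectrum S := ⟨P, hPp, hPb⟩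
  set e := Ideal.ramificationIdx' (IsLocalRing.maximalIdeal R) P
  have hϖS : algebraMap R S ϖ ≠ 0 := fun h0 => hϖ.ne_zero (hinj (by
    rw [map_zero, IsScalarTower.algebraMap_apply R S Ls, h0, map_zero]))
  have hval : v.valuation Ls (algebraMap R Ls ϖ) = WithZero.exp (-(e : ℤ)) := by
    rw [IsScalarTower.algebraMap_apply R S Ls, v.valuation_of_algebraMap,
      v.intValuation_eq_exp_neg_multiplicity hϖS]
    congr 2
    have hmap : Ideal.map (algebraMap R S) (IsLocalRing.maximalIdeal R) = Ideal.span {algebraMap R S ϖ} := by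
      rw [hϖ.maximalIdeal_eq, Ideal.map_span, Set.image_singleton]
    have hkey : ∀ m : ℕ, Ideal.map (algebraMap R S) (IsLocalRing.maximalIdeal R) ≤ P ^ m ↔
        m ≤ multiplicity v.asIdeal (Ideal.span {algebraMap R S ϖ}) := fun m => by
      rw [hmap, Ideal.span_singleton_le_iff_mem, ← v.intValuation_le_pow_iff_mem,
        v.intValuation_eq_exp_neg_multiplicity hϖS, WithZero.exp_le_exp]
      omega
    exact_mod_cast (Ideal.ramificationIdx'_spec ((hkey _).2 le_rfl) (fun h => by have := (hkey _).1 h; omega)).symm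
  let T : Fin (N + 1) → Ls :=
    Fin.cons (y 0 ^ d) (fun i => -((algebraMap R Ls ϖ) ^ (((i : ℕ) + 1) * q) * y i.succ ^ d))
  have hTsum : ∑ i, T i = 0 := by
    simp only [T, Fin.sum_cons, Finset.sum_neg_distrib, ← heq', add_neg_cancel]
  have hTval : ∀ i, v.valuation Ls (T i) =
      WithZero.exp (-((i : ℕ) * q * e : ℕ) : ℤ) * v.valuation Ls (y i) ^ d := fun i => by
    cases i using Fin.cases with
    | zero => simp [T]
    | succ i =>
      simp only [T, Fin.cons_succ, Valuation.map_neg, map_mul, map_pow, hval, Fin.val_succ]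
      congr 1
      rw [← WithZero.exp_nsmul]
      congr 1
      push_cast
      ring
  obtain ⟨j, -, hj⟩ := Finset.exists_max_image Finset.univ (fun i => v.valuation Ls (T i)) Finset.univ_nonempty
  have hj0 : v.valuation Ls (T j) ≠ 0 := by
    obtain ⟨i, hi⟩ := Function.ne_iff.1 hy0
    intro h0
    have := hj i (Finset.mem_univ i)
    rw [h0, le_zero_iff, hTval, mul_eq_zero] at this
    rcases this with h1 | h1
    · exact WithZero.exp_ne_zero h1
    · exact hi ((map_eq_zero _).1 (pow_eq_zero_iff'.1 h1).1)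
  obtain ⟨i, hij, hi⟩ : ∃ i, i ≠ j ∧ v.valuation Ls (T i) = v.valuation Ls (T j) := by
    by_contra! hne
    apply hj0
    rw [← Valuation.map_sum_eq_of_lt (v.valuation Ls) (Finset.mem_univ j) (fun i hi => by
      simp only [Finset.mem_sdiff, Finset.mem_singleton] at hi
      exact lt_of_le_of_ne (hj i (Finset.mem_univ i)) (hne i hi.2)), hTsum, map_zero]
  have hyi : ∀ l, v.valuation Ls (T l) ≠ 0 → v.valuation Ls (T l) =
      WithZero.exp ((d : ℤ) * WithZero.log (v.valuation Ls (y l)) - (l : ℕ) * ((q * e : ℕ) : ℤ)) := fun l hl => by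
    rw [hTval] at hl ⊢
    have h0 : v.valuation Ls (y l) ≠ 0 := fun h0 => hl (by rw [h0, zero_pow (by omega), mul_zero])
    conv_lhs => rw [← WithZero.exp_log h0, ← WithZero.exp_nsmul, ← WithZero.exp_add]
    congr 1
    push_cast
    ring
  rw [hyi i (hi ▸ hj0), hyi j hj0, WithZero.exp_inj] at hi
  have := idx_dvd hd (Nat.le_of_lt_succ i.2) (Nat.le_of_lt_succ j.2) (Fin.val_ne_of_ne hij) (E := q * e) hi
  exact this.trans ⟨Ideal.inertiaDeg' (IsLocalRing.maximalIdeal R) P, by ring⟩

include hϖ in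
/-- Points over Kummer extensions. -/
theorem exists_point (d N δ : ℕ) (hd : 1 ≤ d) (hδ : δ ∈ (Finset.Icc 1 N).filter (fun δ => δ ∣ d)) :
    ∃ (L : Type u) (_ : Field L) (_ : Algebra K L), FiniteDimensional K L ∧
      ((d / δ : ℕ) : ℤ) = (Module.finrank K L : ℤ) ∧ ∃ x : Fin (N + 1) → L, x ≠ 0 ∧
        x 0 ^ d = ∑ i : Fin N, algebraMap K L (algebraMap R K (ϖ ^ ((i : ℕ) + 1))) * x i.succ ^ d := by
  classical
  obtain ⟨hδ1, m, rfl⟩ := Finset.mem_filter.1 hδ
  obtain ⟨hδ0, hδN⟩ := Finset.mem_Icc.1 hδ1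
  have hm : m ≠ 0 := by rintro rfl; simp at hd
  rw [Nat.mul_div_cancel_left _ (by omega)]
  let f : R[X] := X ^ m - C ϖ
  have hf : f.Monic := monic_X_pow_sub_C ϖ hm
  have hfd : f.natDegree = m := natDegree_X_pow_sub_C
  have hirr : Irreducible f := by
    have hmax := hϖ.maximalIdeal_eq
    refine irreducible_of_eisenstein_criterion (P := IsLocalRing.maximalIdeal R)
      (IsLocalRing.maximalIdeal.isMaximal R).isPrime ?_ ?_ ?_ ?_ hf.isPrimitive
    · rw [hf.leadingCoeff]; exact fun h => (Ideal.IsPrime.ne_top inferInstance) ((Ideal.eq_top_iff_one _).2 h)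
    · intro l hl
      rw [degree_eq_natDegree hf.ne_zero, hfd] at hl
      have hlm : l < m := by exact_mod_cast hl
      rw [coeff_sub, coeff_X_pow, if_neg (by omega), zero_sub, coeff_C]
      split_ifs with h0
      · exact (Ideal.neg_mem_iff _).2 (hmax ▸ Ideal.mem_span_singleton_self ϖ)
      · simp
    · rw [degree_eq_natDegree hf.ne_zero, hfd]; exact_mod_cast Nat.pos_of_ne_zero hm
    · rw [coeff_sub, coeff_X_pow, if_neg (Ne.symm hm), zero_sub, coeff_C_zero, Ideal.neg_mem_iff, hmax,
        Ideal.span_singleton_pow, Ideal.mem_span_singleton]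
      intro hdvd
      have h1 : ϖ * ϖ ∣ ϖ * 1 := by rwa [mul_one, ← pow_two]
      exact hϖ.not_isUnit (isUnit_of_dvd_one ((mul_dvd_mul_iff_left hϖ.ne_zero).1 h1))
  haveI : Fact (Irreducible (f.map (algebraMap R K))) :=
    ⟨(hf.irreducible_iff_irreducible_map_fraction_map (K := K)).1 hirr⟩
  let L := AdjoinRoot (f.map (algebraMap R K))
  have hne : f.map (algebraMap R K) ≠ 0 := (hf.map _).ne_zero
  let pb := AdjoinRoot.powerBasis hne
  refine ⟨L, inferInstance, inferInstance, pb.finite, ?_, ?_⟩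
  · rw [pb.finrank, AdjoinRoot.powerBasis_dim, hf.natDegree_map, hfd]
  · let r : L := AdjoinRoot.root _
    have hr : r ^ m = algebraMap K L (algebraMap R K ϖ) := by
      have := AdjoinRoot.eval₂_root (f.map (algebraMap R K))
      simp only [f, Polynomial.map_sub, Polynomial.map_pow, map_X, map_C, eval₂_sub, eval₂_X_pow, eval₂_C, sub_eq_zero] at this
      exact this
    let i0 : Fin N := ⟨δ - 1, by omega⟩
    refine ⟨Fin.cons r (fun i => if i = i0 then 1 else 0), ?_, ?_⟩
    · intro h0
      have := congrFun h0 i0.succ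
      simp at this
    · have hi0 : (i0 : ℕ) + 1 = δ := by show δ - 1 + 1 = δ; omega
      rw [Fin.cons_zero, Finset.sum_eq_single i0 (fun i _ hi => by simp [hi, zero_pow (show δ * m ≠ 0 by positivity)])
        (by simp), Fin.cons_succ, if_pos rfl, one_pow, mul_one, hi0, map_pow, map_pow, ← hr, ← pow_mul, mul_comm m δ]

end Groth.Agent.TwDiag
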